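import Mathlib
import Cfsg.Agent.Lib.Spec.UnitaryThreeLower
import Cfsg.Agent.Lib.Linear.HermStandard
import Cfsg.Agent.Lib.Linear.UnitaryCenter
import Cfsg.Prelude.Def_Classical

/-!
# A Sylow 2-subgroup of `SU(3, q)` and of `PSU(3, q)`, `q` even, in coordinates

The subgroup consists of the pairs `(a, b)` with `b ^ q + b = a ^ (q + 1)`, multiplied by
`(a, b) (c, d) = (a + c, b + d + a c ^ q)`.
-/

set_option autoImplicit false
set_option linter.style.haveILetI false
set_option linter.unusedSectionVars false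

open Matrix Cfsg.Lib.Spec.UThree

namespace Cfsg.Lib.U3Even

/-- Coordinates on a group: pairs `(a, b)` with `b ^ q + b = a ^ (q + 1)`. -/
structure Coords (F : Type*) [Field F] (q : ℕ) (T : Type*) [Group T] where
  /-- first coordinate -/
  A : T → F
  /-- second coordinate -/
  B : T → F
  A_mul : ∀ g h, A (g * h) = A g + A h
  B_mul : ∀ g h, B (g * h) = B g + B h + A g * A h ^ q
  inj : ∀ g h, A g = A h → B g = B h → g = h
  cond : ∀ g, B g ^ q + B g = A g ^ (q + 1)
  exists_mk : ∀ a b : F, b ^ q + b = a ^ (q + 1) → ∃ g, A g = a ∧ B g = b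

/-- Transport of coordinates. -/
def Coords.comp {F : Type*} [Field F] {q : ℕ} {T T' : Type*} [Group T] [Group T']
    (c : Coords F q T) (e : T' ≃* T) : Coords F q T' where
  A g := c.A (e g)
  B g := c.B (e g)
  A_mul g h := by rw [map_mul, c.A_mul]
  B_mul g h := by rw [map_mul, c.B_mul]
  inj g h h1 h2 := e.injective (c.inj _ _ h1 h2)
  cond g := c.cond _
  exists_mk a b h := by
    obtain ⟨g, h1, h2⟩ := c.exists_mk a b h
    exact ⟨e.symm g, by rw [e.apply_symm_apply, h1], by rw [e.apply_symm_apply, h2]⟩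

section Field

variable {F : Type*} [Field F] [Fintype F] {n : ℕ}

theorem two_eq_zero (hn : 1 ≤ n) (hF : Fintype.card F = (2 ^ n) ^ 2) : (2 : F) = 0 := by
  have h := Nat.cast_card_eq_zero F
  rw [hF, Nat.cast_pow, Nat.cast_pow, ← pow_mul, Nat.cast_ofNat] at h
  exact (pow_eq_zero_iff (by omega)).1 h

theorem charP_two (hn : 1 ≤ n) (hF : Fintype.card F = (2 ^ n) ^ 2) : CharP F 2 :=
  (CharP.charP_iff_prime_eq_zero Nat.prime_two).2 (two_eq_zero hn hF)

theorem add_self (hn : 1 ≤ n) (hF : Fintype.card F = (2 ^ n) ^ 2) (x : F) : x + x = 0 := by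
  linear_combination x * two_eq_zero hn hF

theorem frob_add (hn : 1 ≤ n) (hF : Fintype.card F = (2 ^ n) ^ 2) (x y : F) :
    (x + y) ^ (2 ^ n) = x ^ (2 ^ n) + y ^ (2 ^ n) := by
  haveI := charP_two hn hF
  haveI : Fact (Nat.Prime 2) := ⟨Nat.prime_two⟩
  exact add_pow_char_pow x y 2 n

theorem frob_frob (hF : Fintype.card F = (2 ^ n) ^ 2) (x : F) : (x ^ (2 ^ n)) ^ (2 ^ n) = x := by
  have h := FiniteField.pow_card x
  rwa [hF, sq, pow_mul] at h

/-- `b ↦ b ^ q + b`. -/
def trMap (hn : 1 ≤ n) (hF : Fintype.card F = (2 ^ n) ^ 2) : F →+ F :=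
  AddMonoidHom.mk' (fun b => b ^ (2 ^ n) + b) fun x y => by rw [frob_add hn hF]; ring

theorem mem_tr_ker (hn : 1 ≤ n) (hF : Fintype.card F = (2 ^ n) ^ 2) (x : F) :
    x ∈ (trMap hn hF).ker ↔ x ^ (2 ^ n) = x := by
  show x ^ (2 ^ n) + x = 0 ↔ _
  constructor
  · intro h; linear_combination h - add_self hn hF x
  · intro h; rw [h, add_self hn hF]

/-- `x ^ q = l * x` has at most `q` solutions. -/
theorem card_roots_le (hn : 1 ≤ n) (l : F) : Nat.card {x : F // x ^ (2 ^ n) = l * x} ≤ 2 ^ n := by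
  classical
  obtain ⟨p, hp⟩ : ∃ p : Polynomial F, p = Polynomial.X ^ (2 ^ n) - Polynomial.C l * Polynomial.X :=
    ⟨_, rfl⟩
  have h1 : 1 < 2 ^ n := Nat.one_lt_two_pow (by omega)
  have hdeg : p.natDegree ≤ 2 ^ n := by
    rw [hp]
    refine (Polynomial.natDegree_sub_le _ _).trans (max_le (by simp) ?_)
    exact (Polynomial.natDegree_C_mul_le _ _).trans (Polynomial.natDegree_X_le.trans h1.le)
  have hp0 : p ≠ 0 := fun e => by
    have := congrArg (Polynomial.coeff · (2 ^ n)) e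
    simp [hp, Polynomial.coeff_X, h1.ne] at this
  have := Nat.card_le_card_of_injective
    (fun x : {x : F // x ^ (2 ^ n) = l * x} => (⟨x.1, by
      rw [Multiset.mem_toFinset, Polynomial.mem_roots hp0, Polynomial.IsRoot]
      simp [hp, x.2]⟩ : p.roots.toFinset))
    fun x y e => Subtype.ext (congrArg (fun z : p.roots.toFinset => (z : F)) e)
  rw [Nat.card_eq_fintype_card (α := p.roots.toFinset), Fintype.card_coe] at this
  exact this.trans ((Multiset.toFinset_card_le _).trans ((Polynomial.card_roots' p).trans hdeg))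

theorem tr_facts (hn : 1 ≤ n) (hF : Fintype.card F = (2 ^ n) ^ 2) :
    Nat.card (trMap hn hF).ker = 2 ^ n ∧ (trMap hn hF).range = (trMap hn hF).ker := by
  set L := trMap hn hF with hL
  have hk : Nat.card L.ker ≤ 2 ^ n := by
    refine le_trans (le_of_eq ?_) (card_roots_le hn (1 : F))
    exact Nat.card_congr (Equiv.subtypeEquivRight fun x => by rw [hL, mem_tr_ker, one_mul])
  have hr : L.range ≤ L.ker := by
    rintro _ ⟨x, rfl⟩
    rw [hL, mem_tr_ker]
    show (x ^ (2 ^ n) + x) ^ (2 ^ n) = x ^ (2 ^ n) + x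
    rw [frob_add hn hF, frob_frob hF, add_comm]
  have h16 : Nat.card L.ker * Nat.card L.range = (2 ^ n) ^ 2 := by
    rw [← AddSubgroup.index_ker, AddSubgroup.card_mul_index, Nat.card_eq_fintype_card, hF]
  have hr' := AddSubgroup.card_le_of_le hr
  have hk2 : Nat.card L.ker = 2 ^ n := by nlinarith
  exact ⟨hk2, AddSubgroup.eq_of_le_of_card_ge hr (by nlinarith)⟩

/-- every element of the subfield is a trace. -/
theorem exists_tr (hn : 1 ≤ n) (hF : Fintype.card F = (2 ^ n) ^ 2) {x : F} (hx : x ^ (2 ^ n) = x) :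
    ∃ b : F, b ^ (2 ^ n) + b = x := by
  have : x ∈ (trMap hn hF).range := by rw [(tr_facts hn hF).2, mem_tr_ker]; exact hx
  exact this

theorem norm_fixed (hF : Fintype.card F = (2 ^ n) ^ 2) (a : F) :
    (a ^ (2 ^ n + 1)) ^ (2 ^ n) = a ^ (2 ^ n + 1) := by
  rw [pow_succ, mul_pow, frob_frob hF]; ring

theorem exists_point (hn : 1 ≤ n) (hF : Fintype.card F = (2 ^ n) ^ 2) (a : F) :
    ∃ b : F, b ^ (2 ^ n) + b = a ^ (2 ^ n + 1) :=
  exists_tr hn hF (norm_fixed hF a)

/-- every element of the subfield is a norm. -/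
theorem exists_norm (hn : 1 ≤ n) (hF : Fintype.card F = (2 ^ n) ^ 2) {x : F} (hx : x ^ (2 ^ n) = x) :
    ∃ a : F, a ^ (2 ^ n + 1) = x := by
  classical
  set q := 2 ^ n with hq
  have hq2 : 2 ≤ q := Nat.le_self_pow (by omega) 2
  by_cases hx0 : x = 0
  · exact ⟨0, by rw [hx0, zero_pow (Nat.succ_ne_zero _)]⟩
  let ψ : Fˣ →* Fˣ := powMonoidHom (q + 1)
  have hk : Nat.card ψ.ker ≤ q + 1 := by
    have := Nat.card_le_card_of_injective
      (fun x : ψ.ker => (⟨((x : Fˣ) : F), by
        rw [Multiset.mem_toFinset, Polynomial.mem_nthRoots (by omega)]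
        have := x.2
        rw [MonoidHom.mem_ker] at this
        simpa [ψ, Units.ext_iff] using this⟩ : (Polynomial.nthRoots (q + 1) (1 : F)).toFinset))
      fun x y e => Subtype.ext (Units.ext (congrArg Subtype.val e))
    rw [Nat.card_eq_fintype_card (α := (Polynomial.nthRoots (q + 1) (1 : F)).toFinset),
      Fintype.card_coe] at this
    exact this.trans ((Multiset.toFinset_card_le _).trans (Polynomial.card_nthRoots _ 1))
  let V : Subgroup Fˣ := (powMonoidHom (q - 1) : Fˣ →* Fˣ).ker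
  have hrV : ψ.range ≤ V := by
    rintro _ ⟨y, rfl⟩
    show (y ^ (q + 1)) ^ (q - 1) = 1
    rw [← pow_mul, ← Nat.sq_sub_sq, one_pow]
    refine Units.ext ?_
    have := FiniteField.pow_card_sub_one_eq_one (y : F) y.ne_zero
    rw [hF] at this
    simpa using this
  have hV : Nat.card V ≤ q - 1 := by
    have := Nat.card_le_card_of_injective
      (fun x : V => (⟨((x : Fˣ) : F), by
        rw [Multiset.mem_toFinset, Polynomial.mem_nthRoots (by omega)]
        have := x.2
        rw [MonoidHom.mem_ker] at this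
        simpa [Units.ext_iff] using this⟩ : (Polynomial.nthRoots (q - 1) (1 : F)).toFinset))
      fun x y e => Subtype.ext (Units.ext (congrArg Subtype.val e))
    rw [Nat.card_eq_fintype_card (α := (Polynomial.nthRoots (q - 1) (1 : F)).toFinset),
      Fintype.card_coe] at this
    exact this.trans ((Multiset.toFinset_card_le _).trans (Polynomial.card_nthRoots _ 1))
  have h15 : Nat.card ψ.ker * Nat.card ψ.range = (q + 1) * (q - 1) := by
    rw [← Subgroup.index_ker, Subgroup.card_mul_index, Nat.card_units, Nat.card_eq_fintype_card, hF,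
      ← Nat.sq_sub_sq, one_pow]
  have hr' := Subgroup.card_le_of_le hrV
  obtain ⟨k, hk'⟩ : ∃ k, q = k + 2 := ⟨q - 2, by omega⟩
  have hk3 : Nat.card ψ.range = Nat.card V := by
    have : q - 1 = k + 1 := by omega
    rw [this] at h15 hV
    nlinarith
  have hVeq : ψ.range = V := Subgroup.eq_of_le_of_card_ge hrV hk3.ge
  have hxV : Units.mk0 x hx0 ∈ V := by
    refine Units.ext (mul_left_cancel₀ hx0 ?_)
    show x * x ^ (q - 1) = x * 1
    rw [← pow_succ', show q - 1 + 1 = q by omega, hx, mul_one]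
  rw [← hVeq] at hxV
  obtain ⟨y, hy⟩ := hxV
  exact ⟨(y : F), by simpa [ψ] using congrArg Units.val hy⟩

end Field

namespace Coords

variable {F : Type*} [Field F] [Fintype F] {n : ℕ} {T : Type*} [Group T]
  (hn : 1 ≤ n) (hF : Fintype.card F = (2 ^ n) ^ 2) (c : Coords F (2 ^ n) T)

include hn hF c

theorem A_one : c.A 1 = 0 := by simpa using c.A_mul 1 1

theorem B_one : c.B 1 = 0 := by
  have h := c.B_mul 1 1
  rw [c.A_one hn hF, zero_mul, add_zero, mul_one] at h
  simpa using h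

theorem A_sq (g : T) : c.A (g * g) = 0 := by rw [c.A_mul, add_self hn hF]

theorem B_sq (g : T) : c.B (g * g) = c.A g ^ (2 ^ n + 1) := by
  rw [c.B_mul, add_self hn hF, zero_add, pow_succ']

theorem A_eq_zero_iff (g : T) : c.A g = 0 ↔ g * g = 1 := by
  constructor
  · intro h
    exact c.inj _ _ (by rw [c.A_sq hn hF, c.A_one hn hF])
      (by rw [c.B_sq hn hF, h, c.B_one hn hF, zero_pow (Nat.succ_ne_zero _)])
  · intro h
    have := c.B_sq hn hF g
    rw [h, c.B_one hn hF] at this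
    exact eq_zero_of_pow_eq_zero this.symm

theorem A_inv (g : T) : c.A g⁻¹ = c.A g := by
  have h := c.A_mul g g⁻¹
  rw [mul_inv_cancel, c.A_one hn hF] at h
  linear_combination (-1 : F) * h - add_self hn hF (c.A g)

theorem B_fixed {g : T} (hg : c.A g = 0) : c.B g ^ (2 ^ n) = c.B g := by
  rw [← mem_tr_ker hn hF]
  show c.B g ^ (2 ^ n) + c.B g = 0
  rw [c.cond, hg, zero_pow (Nat.succ_ne_zero _)]

theorem exists_zero {x : F} (hx : x ^ (2 ^ n) = x) : ∃ g, c.A g = 0 ∧ c.B g = x :=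
  c.exists_mk 0 x (by rw [hx, add_self hn hF, zero_pow (Nat.succ_ne_zero _)])

theorem card_eq : Nat.card T = (2 ^ n) ^ 3 := by
  choose bsol hbsol using exists_point hn hF
  have hbij : Function.Bijective (fun g : T => ((c.A g, ⟨c.B g + bsol (c.A g), by
        show (c.B g + bsol (c.A g)) ^ (2 ^ n) + (c.B g + bsol (c.A g)) = 0
        rw [frob_add hn hF]
        linear_combination c.cond g + hbsol (c.A g) + c.A g ^ (2 ^ n + 1) * two_eq_zero hn hF⟩) :
      F × (trMap hn hF).ker)) := by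
    refine ⟨fun g h e => ?_, fun x => ?_⟩
    · have e1 : c.A g = c.A h := congrArg Prod.fst e
      have e2 : c.B g + bsol (c.A g) = c.B h + bsol (c.A h) :=
        congrArg (fun p : F × (trMap hn hF).ker => (p.2 : F)) e
      rw [e1] at e2
      exact c.inj _ _ e1 (add_right_cancel e2)
    · obtain ⟨g, hg, hg'⟩ := c.exists_mk x.1 (x.2.1 + bsol x.1) (by
        have hx : (x.2.1 : F) ^ (2 ^ n) = x.2.1 := (mem_tr_ker hn hF _).1 x.2.2
        rw [frob_add hn hF, hx]
        linear_combination hbsol x.1 + (x.2.1 : F) * two_eq_zero hn hF)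
      refine ⟨g, Prod.ext hg (Subtype.ext ?_)⟩
      show c.B g + bsol (c.A g) = _
      rw [hg, hg']
      linear_combination bsol x.1 * two_eq_zero hn hF
  rw [Nat.card_eq_of_bijective _ hbij, Nat.card_prod, Nat.card_eq_fintype_card (α := F), hF,
    (tr_facts hn hF).1]
  ring

theorem mem_center_iff (g : T) : g ∈ Subgroup.center T ↔ c.A g = 0 := by
  have hq : 2 ≤ 2 ^ n := Nat.le_self_pow (by omega) 2
  constructor
  · intro hg
    by_contra hne
    -- some element does not commute with `g`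
    obtain ⟨x, hx⟩ : ∃ x : F, ¬ x ^ (2 ^ n) = c.A g ^ (2 ^ n) / c.A g * x := by
      by_contra hall
      push Not at hall
      have h := card_roots_le hn (c.A g ^ (2 ^ n) / c.A g)
      rw [Nat.card_congr (Equiv.subtypeUnivEquiv hall), Nat.card_eq_fintype_card, hF] at h
      nlinarith
    obtain ⟨b, hb⟩ := exists_point hn hF x
    obtain ⟨h, hh, -⟩ := c.exists_mk x b hb
    have e := congrArg c.B (Subgroup.mem_center_iff.1 hg h)
    rw [c.B_mul, c.B_mul, hh] at e
    refine hx (mul_left_cancel₀ hne ?_)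
    field_simp
    linear_combination -e
  · intro hg
    refine Subgroup.mem_center_iff.2 fun h => c.inj _ _ (by rw [c.A_mul, c.A_mul, add_comm]) ?_
    rw [c.B_mul, c.B_mul, hg, zero_pow (show 2 ^ n ≠ 0 by omega)]
    ring

theorem card_center : Nat.card (Subgroup.center T) = 2 ^ n := by
  rw [← (tr_facts hn hF).1]
  refine Nat.card_eq_of_bijective (fun z : Subgroup.center T => (⟨c.B z, ?_⟩ : (trMap hn hF).ker)) ⟨?_, ?_⟩
  · rw [mem_tr_ker]; exact c.B_fixed hn hF ((c.mem_center_iff hn hF _).1 z.2)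
  · intro z w e
    exact Subtype.ext (c.inj _ _ (((c.mem_center_iff hn hF _).1 z.2).trans
      ((c.mem_center_iff hn hF _).1 w.2).symm) (congrArg Subtype.val e))
  · rintro ⟨x, hx⟩
    obtain ⟨g, hg, hg'⟩ := c.exists_zero hn hF ((mem_tr_ker hn hF x).1 hx)
    exact ⟨⟨g, (c.mem_center_iff hn hF g).2 hg⟩, Subtype.ext hg'⟩

end Coords

section Model

variable {F : Type*} [Field F] [Fintype F] {n : ℕ}

/-- the unitriangular matrix -/
def um (q : ℕ) (a b : F) : Matrix (Fin 3) (Fin 3) F := !![1, a, b; 0, 1, a ^ q; 0, 0, 1]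

theorem um_mul (hn : 1 ≤ n) (hF : Fintype.card F = (2 ^ n) ^ 2) (a b c d : F) :
    um (2 ^ n) a b * um (2 ^ n) c d = um (2 ^ n) (a + c) (d + a * c ^ (2 ^ n) + b) := by
  ext i j
  fin_cases i <;> fin_cases j <;>
    simp [um, Matrix.mul_apply, Fin.sum_univ_three, frob_add hn hF] <;> ring

theorem um_zero (hn : 1 ≤ n) : um (2 ^ n) (0 : F) 0 = 1 := by
  ext i j
  fin_cases i <;> fin_cases j <;> simp [um, zero_pow (show 2 ^ n ≠ 0 by positivity)]

/-- A subgroup of `SU(3, q)` with coordinates. -/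
theorem exists_unipotent (hn : 1 ≤ n) (hF : Fintype.card F = (2 ^ n) ^ 2) :
    ∃ U : Subgroup (Cfsg.SU 3 F (2 ^ n)), Nonempty (Coords F (2 ^ n) U) := by
  classical
  have hq0 : 2 ^ n ≠ 0 := by positivity
  have t2 := two_eq_zero hn hF
  obtain ⟨θ, hθ⟩ := exists_tr hn hF (show (1 : F) ^ (2 ^ n) = 1 from one_pow _)
  let P : Matrix (Fin 3) (Fin 3) F := !![1, 0, θ; 1, 0, θ + 1; 0, 1, 0]
  let P' : Matrix (Fin 3) (Fin 3) F := !![1 + θ, θ, 0; 0, 0, 1; 1, 1, 0]
  have h1 : P * P' = 1 := by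
    ext i j
    fin_cases i <;> fin_cases j <;> simp [P, P', Matrix.mul_apply, Fin.sum_univ_three] <;> grind
  have h1' : P' * P = 1 := mul_eq_one_comm.1 h1
  have hθ1 : (θ + 1) ^ (2 ^ n) = θ ^ (2 ^ n) + 1 := by rw [frob_add hn hF, one_pow]
  have hform : Pᵀ * P.map (· ^ (2 ^ n)) = antiDiag F := by
    ext i j
    fin_cases i <;> fin_cases j <;>
      simp [P, antiDiag, Matrix.mul_apply, Fin.sum_univ_three, hθ1, zero_pow hq0] <;> grind
  have e4 : P'ᵀ * antiDiag F * P'.map (· ^ (2 ^ n)) = 1 := by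
    rw [← hform, ← Matrix.mul_assoc, ← Matrix.transpose_mul, h1, Matrix.transpose_one, Matrix.one_mul,
      ← map_pow_mul hF, h1]
    ext i j
    simp only [Matrix.map_apply, Matrix.one_apply]
    split_ifs <;> simp [zero_pow hq0]
  have hex : ∀ a b : F, b ^ (2 ^ n) + b = a ^ (2 ^ n + 1) →
      ∃ g : Cfsg.SU 3 F (2 ^ n), smat g = P * um (2 ^ n) a b * P' := by
    intro a b hab
    refine exists_of_form hF _ ?_ ?_
    · rw [Matrix.det_mul, Matrix.det_mul,
        show (um (2 ^ n) a b).det = 1 by simp [um, Matrix.det_fin_three],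
        mul_one, ← Matrix.det_mul, h1, Matrix.det_one]
    · have hM : (um (2 ^ n) a b)ᵀ * antiDiag F * (um (2 ^ n) a b).map (· ^ (2 ^ n)) = antiDiag F := by
        have hqq := frob_frob hF a
        rw [pow_succ] at hab
        ext i j
        fin_cases i <;> fin_cases j <;>
          simp [um, antiDiag, Matrix.mul_apply, Fin.sum_univ_three, zero_pow hq0, hqq] <;> grind
      calc (P * um (2 ^ n) a b * P')ᵀ * (P * um (2 ^ n) a b * P').map (· ^ (2 ^ n))
          = P'ᵀ * ((um (2 ^ n) a b)ᵀ * (Pᵀ * P.map (· ^ (2 ^ n))) *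
              (um (2 ^ n) a b).map (· ^ (2 ^ n))) * P'.map (· ^ (2 ^ n)) := by
            simp only [Matrix.transpose_mul, map_pow_mul hF, Matrix.mul_assoc]
        _ = 1 := by rw [hform, hM, e4]
  have hsmul : ∀ g h : Cfsg.SU 3 F (2 ^ n), smat (g * h) = smat g * smat h := fun _ _ => rfl
  have hsinj : ∀ g h : Cfsg.SU 3 F (2 ^ n), smat g = smat h → g = h :=
    fun g h e => Subtype.ext (Subtype.ext e)
  have hconj : ∀ M N : Matrix (Fin 3) (Fin 3) F, P * M * P' * (P * N * P') = P * (M * N) * P' := by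
    intro M N
    calc P * M * P' * (P * N * P') = P * M * (P' * P) * (N * P') := by simp only [Matrix.mul_assoc]
      _ = _ := by rw [h1', Matrix.mul_one]; simp only [Matrix.mul_assoc]
  have humuniq : ∀ a b c d : F, P * um (2 ^ n) a b * P' = P * um (2 ^ n) c d * P' → a = c ∧ b = d := by
    intro a b c d e
    have e' := congrArg (fun M => P' * M * P) e
    have hh : ∀ M : Matrix (Fin 3) (Fin 3) F, P' * (P * M * P') * P = M := fun M => by
      rw [← Matrix.mul_assoc, ← Matrix.mul_assoc, h1', Matrix.one_mul, Matrix.mul_assoc, h1',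
        Matrix.mul_one]
    simp only [hh] at e'
    exact ⟨by simpa [um] using congrFun (congrFun e' 0) 1,
      by simpa [um] using congrFun (congrFun e' 0) 2⟩
  let U : Subgroup (Cfsg.SU 3 F (2 ^ n)) :=
    { carrier := {g | ∃ a b : F, b ^ (2 ^ n) + b = a ^ (2 ^ n + 1) ∧
        smat g = P * um (2 ^ n) a b * P'}
      one_mem' := ⟨0, 0, by simp [zero_pow hq0], by
        rw [um_zero hn, Matrix.mul_one, h1]
        rfl⟩
      mul_mem' := by
        rintro g h ⟨a, b, hab, hg⟩ ⟨c, d, hcd, hh⟩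
        refine ⟨a + c, d + a * c ^ (2 ^ n) + b, ?_, by rw [hsmul, hg, hh, hconj, um_mul hn hF]⟩
        have hcc := frob_frob hF c
        rw [frob_add hn hF, frob_add hn hF, mul_pow, hcc, pow_succ, frob_add hn hF]
        rw [pow_succ] at hab hcd
        linear_combination hab + hcd
      inv_mem' := by
        rintro g ⟨a, b, hab, hg⟩
        have hcd : (b + a * a ^ (2 ^ n)) ^ (2 ^ n) + (b + a * a ^ (2 ^ n)) = a ^ (2 ^ n + 1) := by
          rw [frob_add hn hF, mul_pow, frob_frob hF]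
          linear_combination hab + a * a ^ (2 ^ n) * t2
        obtain ⟨h, hh⟩ := hex a (b + a * a ^ (2 ^ n)) hcd
        have : g * h = 1 := hsinj _ _ (by
          rw [hsmul, hg, hh, hconj, um_mul hn hF,
            show b + a * a ^ (2 ^ n) + a * a ^ (2 ^ n) + b = 0 by
              linear_combination (b + a * a ^ (2 ^ n)) * t2,
            add_self hn hF, um_zero hn, Matrix.mul_one, h1]
          rfl)
        rw [inv_eq_of_mul_eq_one_right this]
        exact ⟨a, b + a * a ^ (2 ^ n), hcd, hh⟩ }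
  choose A B hAB hgm using fun g : U => g.2
  have huniq : ∀ (g : U) a b, smat (g : Cfsg.SU 3 F (2 ^ n)) = P * um (2 ^ n) a b * P' →
      A g = a ∧ B g = b := fun g a b h => humuniq _ _ _ _ ((hgm g).symm.trans h)
  have hmul : ∀ g h : U, A (g * h) = A g + A h ∧ B (g * h) = B h + A g * A h ^ (2 ^ n) + B g :=
    fun g h => huniq _ _ _ (by rw [Subgroup.coe_mul, hsmul, hgm, hgm, hconj, um_mul hn hF])
  refine ⟨U, ⟨{ A := A, B := B, A_mul := fun g h => (hmul g h).1
                B_mul := fun g h => by rw [(hmul g h).2]; ring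
                inj := fun g h h1' h2' => Subtype.ext (hsinj _ _ (by rw [hgm, hgm, h1', h2']))
                cond := hAB
                exists_mk := fun a b h => ?_ }⟩⟩
  obtain ⟨g, hg⟩ := hex a b h
  exact ⟨⟨g, a, b, h, hg⟩, huniq _ a b hg⟩

theorem card_SU_three (hn : 1 ≤ n) (hF : Fintype.card F = (2 ^ n) ^ 2) :
    Nat.card (Cfsg.SU 3 F (2 ^ n)) =
      (2 ^ n) ^ 3 * (((2 ^ n) ^ 2 - 1) * ((2 ^ n) ^ 3 + 1)) := by
  have h := Cfsg.Lib.Linear.Herm.card_SU hF (n := 3) (by norm_num)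
  rw [Cfsg.Lib.Linear.Herm.card_GU hF 3] at h
  simp only [Finset.prod_range_succ, Finset.prod_range_zero] at h
  simp [show Even 2 from even_two] at h
  refine Nat.eq_of_mul_eq_mul_left (show 0 < 2 ^ n + 1 by positivity) (h.trans ?_)
  ring

/-- Coordinates on every Sylow 2-subgroup of `SU(3, q)`. -/
theorem nonempty_coords (hn : 1 ≤ n) (hF : Fintype.card F = (2 ^ n) ^ 2)
    (P : Sylow 2 (Cfsg.SU 3 F (2 ^ n))) :
    Nonempty (Coords F (2 ^ n) (P : Subgroup (Cfsg.SU 3 F (2 ^ n)))) := by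
  haveI : Fact (Nat.Prime 2) := ⟨Nat.prime_two⟩
  obtain ⟨U, ⟨c⟩⟩ := exists_unipotent hn hF
  have hU : Nat.card U = (2 ^ n) ^ 3 := c.card_eq hn hF
  have hU2 : IsPGroup 2 U := IsPGroup.of_card (n := n * 3) (by rw [hU, pow_mul])
  obtain ⟨Q, hQ⟩ := hU2.exists_le_sylow
  have hq : 2 ∣ 2 ^ n := dvd_pow_self 2 (by omega)
  have hpos : 1 ≤ (2 ^ n) ^ 2 := Nat.one_le_pow _ _ (by positivity)
  have hQU : U = Q := by
    refine Subgroup.eq_of_le_of_card_ge hQ ?_
    rw [hU, Q.card_eq_multiplicity, card_SU_three hn hF,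
      Nat.factorization_mul (by positivity) (by
        have : 1 < (2 ^ n) ^ 2 := Nat.one_lt_pow two_ne_zero (Nat.one_lt_two_pow (by omega))
        exact Nat.mul_ne_zero (by omega) (by positivity)),
      Finsupp.add_apply, ← pow_mul, Nat.Prime.factorization_pow Nat.prime_two, Finsupp.single_eq_same,
      Nat.factorization_eq_zero_of_not_dvd, add_zero]
    rw [Nat.prime_two.dvd_mul, not_or]
    have h3 : 2 ∣ (2 ^ n) ^ 3 := dvd_pow hq (by norm_num)
    have h4 : 2 ∣ (2 ^ n) ^ 2 := dvd_pow hq (by norm_num)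
    simp only [← pow_mul] at h3 h4 hpos ⊢
    constructor <;> omega
  exact ⟨c.comp ((Sylow.equiv P Q).trans (MulEquiv.subgroupCongr hQU.symm))⟩

/-- Coordinates on every Sylow 2-subgroup of `PSU(3, q)`. -/
theorem nonempty_coords_psu (hn : 1 ≤ n) (hF : Fintype.card F = (2 ^ n) ^ 2)
    (S : Sylow 2 (Cfsg.PSU 3 F (2 ^ n))) :
    Nonempty (Coords F (2 ^ n) (S : Subgroup (Cfsg.PSU 3 F (2 ^ n)))) := by
  haveI : Fact (Nat.Prime 2) := ⟨Nat.prime_two⟩
  obtain ⟨P⟩ : Nonempty (Sylow 2 (Cfsg.SU 3 F (2 ^ n))) := inferInstance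
  obtain ⟨c⟩ := nonempty_coords hn hF P
  set Z := Subgroup.center (Cfsg.SU 3 F (2 ^ n)) with hZ
  let π := QuotientGroup.mk' Z
  obtain ⟨Q, hQ⟩ : ∃ Q : Sylow 2 (Cfsg.PSU 3 F (2 ^ n)),
      (Q : Subgroup (Cfsg.PSU 3 F (2 ^ n))) = (P : Subgroup (Cfsg.SU 3 F (2 ^ n))).map π :=
    ⟨P.mapSurjective (QuotientGroup.mk'_surjective Z), P.coe_mapSurjective _⟩
  have hinj : Function.Injective (π.subgroupMap (P : Subgroup (Cfsg.SU 3 F (2 ^ n)))) := by
    rw [← MonoidHom.ker_eq_bot_iff, Subgroup.eq_bot_iff_forall]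
    intro x hx
    have hxZ : (x : Cfsg.SU 3 F (2 ^ n)) ∈ Z :=
      (QuotientGroup.eq_one_iff _).1 (congrArg Subtype.val hx)
    have h1 : orderOf x ∣ Nat.card (P : Subgroup (Cfsg.SU 3 F (2 ^ n))) := orderOf_dvd_natCard x
    have h2 : orderOf x ∣ Nat.card Z := by
      rw [← Subgroup.orderOf_coe]
      exact Subgroup.orderOf_dvd_natCard Z hxZ
    rw [c.card_eq hn hF] at h1
    rw [hZ, Cfsg.Lib.Linear.Herm.card_center_SU hF (by norm_num : 2 ≤ 3)] at h2
    have h3 : orderOf x ∣ 3 := h2.trans (Nat.gcd_dvd_left _ _)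
    have hcop : Nat.Coprime ((2 ^ n) ^ 3) 3 :=
      Nat.Coprime.pow_left _ (Nat.Coprime.pow_left _ (by norm_num))
    exact orderOf_eq_one_iff.1 (Nat.eq_one_of_dvd_coprimes hcop h1 h3)
  exact ⟨c.comp (((Sylow.equiv S Q).trans (MulEquiv.subgroupCongr hQ)).trans
    (MulEquiv.ofBijective _ ⟨hinj, π.subgroupMap_surjective _⟩).symm)⟩

end Model

end Cfsg.Lib.U3Even
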