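import Mathlib
import Cfsg.Agent.Lib.U3Even.Sylow

/-!
# Automorphisms of the Sylow 2-subgroup of `SU(3, q)`, `q` even

An automorphism acts on the first coordinate by `a ↦ μ σ(a)` with `μ ≠ 0` and `σ` a field automorphism,
and on the second by `b ↦ μ ^ (q + 1) σ(b) + d(a)` with `d` additive into the subfield.
-/

set_option autoImplicit false
set_option linter.style.haveILetI false
set_option linter.unusedSectionVars false

namespace Cfsg.Lib.U3Even

variable {F : Type*} [Field F] [Fintype F] {n : ℕ}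

theorem card_field_aut (p f : ℕ) [Fact p.Prime] [CharP F p] (hF : Nat.card F = p ^ f) :
    Nat.card (F ≃+* F) = f := by
  letI := ZMod.algebra F p
  let e : (F ≃+* F) ≃ (F ≃ₐ[ZMod p] F) :=
    { toFun := fun σ => AlgEquiv.ofRingEquiv (f := σ) fun r =>
        RingHom.congr_fun (RingHom.ext_zmod (σ.toRingHom.comp (algebraMap (ZMod p) F)) (algebraMap (ZMod p) F)) r
      invFun := fun τ => τ.toRingEquiv
      left_inv := fun σ => rfl
      right_inv := fun τ => rfl }
  have hdim : Module.finrank (ZMod p) F = f := by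
    have := Module.natCard_eq_pow_finrank (K := ZMod p) (V := F)
    rw [Nat.card_zmod, hF] at this
    exact (Nat.pow_right_injective (Fact.out : p.Prime).two_le this).symm
  rw [Nat.card_congr e, IsGalois.card_aut_eq_finrank, hdim]

/-- the polar form of the norm -/
def polar (q : ℕ) (a b : F) : F := a * b ^ q + a ^ q * b

theorem norm_add (hn : 1 ≤ n) (hF : Fintype.card F = (2 ^ n) ^ 2) (a b : F) :
    (a + b) ^ (2 ^ n + 1) = a ^ (2 ^ n + 1) + b ^ (2 ^ n + 1) + polar (2 ^ n) a b := by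
  rw [pow_succ, frob_add hn hF, pow_succ, pow_succ, polar]
  ring

/-- A map which permutes the norms additively is semilinear. -/
theorem semilinear (hn : 1 ≤ n) (hF : Fintype.card F = (2 ^ n) ^ 2) (Φ ψ : F → F)
    (hΦadd : ∀ a b, Φ (a + b) = Φ a + Φ b) (hΦinj : Function.Injective Φ)
    (hψadd : ∀ x y, x ^ (2 ^ n) = x → y ^ (2 ^ n) = y → ψ (x + y) = ψ x + ψ y)
    (hψfix : ∀ x, x ^ (2 ^ n) = x → ψ x ^ (2 ^ n) = ψ x)
    (hN : ∀ a, ψ (a ^ (2 ^ n + 1)) = Φ a ^ (2 ^ n + 1)) :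
    ∃ (μ : F) (σ : F ≃+* F), μ ≠ 0 ∧ ∀ a, Φ a = μ * σ a := by
  classical
  obtain ⟨q, hq⟩ : ∃ q, q = 2 ^ n := ⟨_, rfl⟩
  simp only [← hq] at hψadd hψfix hN
  have hq2 : 2 ≤ q := hq ▸ Nat.le_self_pow (by omega) 2
  have t2 := two_eq_zero hn hF
  have hΦ0 : Φ 0 = 0 := by simpa using hΦadd 0 0
  have hz : (0 : F) ^ q = 0 := zero_pow (by omega)
  have hψ0 : ψ 0 = 0 := by simpa using hψadd 0 0 hz hz
  have hfa : ∀ x y : F, (x + y) ^ q = x ^ q + y ^ q := hq ▸ frob_add hn hF
  have hff : ∀ x : F, (x ^ q) ^ q = x := hq ▸ frob_frob hF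
  have hNfix : ∀ a : F, (a ^ (q + 1)) ^ q = a ^ (q + 1) := hq ▸ norm_fixed hF
  have hnadd : ∀ a b : F, (a + b) ^ (q + 1) = a ^ (q + 1) + b ^ (q + 1) + polar q a b :=
    hq ▸ norm_add hn hF
  have hPfix : ∀ a b : F, polar q a b ^ q = polar q a b := fun a b => by
    rw [polar, hfa, mul_pow, mul_pow, hff, hff]
    ring
  have hψP : ∀ a b, ψ (polar q a b) = polar q (Φ a) (Φ b) := by
    intro a b
    have hsum : (a ^ (q + 1) + b ^ (q + 1)) ^ q = a ^ (q + 1) + b ^ (q + 1) := by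
      rw [hfa, hNfix, hNfix]
    have h := hN (a + b)
    rw [hnadd, hψadd _ _ hsum (hPfix a b), hψadd _ _ (hNfix a) (hNfix b), hN, hN, hΦadd, hnadd] at h
    exact add_left_cancel h
  obtain ⟨μ, hμ⟩ : ∃ μ, μ = Φ 1 := ⟨_, rfl⟩
  have hμ0 : μ ≠ 0 := fun e => one_ne_zero (α := F) (hΦinj (by rw [← hμ, e, hΦ0]))
  obtain ⟨c, hc⟩ : ∃ c, c = μ ^ (q + 1) := ⟨_, rfl⟩
  have hψ1 : ψ 1 = c := by
    have := hN 1
    rwa [one_pow, ← hμ, ← hc] at this
  have hc0 : c ≠ 0 := hc ▸ pow_ne_zero _ hμ0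
  obtain ⟨g, hg⟩ : ∃ g : F → F, ∀ a, g a = Φ a / μ := ⟨_, fun _ => rfl⟩
  have hΦg : ∀ a, Φ a = μ * g a := fun a => by rw [hg]; field_simp
  obtain ⟨f, hf⟩ : ∃ f : F → F, ∀ x, f x = ψ x / c := ⟨_, fun _ => rfl⟩
  have hgadd : ∀ a b, g (a + b) = g a + g b := fun a b => by rw [hg, hg, hg, hΦadd, add_div]
  have hginj : Function.Injective g := fun a b e => hΦinj (by rw [hΦg, hΦg, e])
  have hg1 : g 1 = 1 := by rw [hg, ← hμ, div_self hμ0]
  have hffix : ∀ x : F, x ^ q = x → f x ^ q = f x := fun x hx => by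
    rw [hf, div_pow, hψfix x hx, show c ^ q = c from hc ▸ hNfix μ]
  have hNg : ∀ a, g a ^ (q + 1) = f (a ^ (q + 1)) := fun a => by
    rw [hg, hf, hN, div_pow, ← hc]
  have hPg : ∀ a b, polar q (g a) (g b) = f (polar q a b) := fun a b => by
    rw [hf, hψP, hg, hg, polar, polar, div_pow, div_pow, hc]
    field_simp
    ring
  -- on the subfield
  have hline : ∀ (a x : F), a ≠ 0 → x ^ q = x → g (a * x) = g a * f x ∧
      ∀ z, z ^ q = z → f (x * z) = f x * f z := by
    intro a x ha hx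
    have hu : g a ≠ 0 := fun e => ha (hginj (e.trans (by rw [hg, hΦ0, zero_div])))
    obtain ⟨l, hl⟩ : ∃ l, l = g (a * x) / g a := ⟨_, rfl⟩
    have hl' : g (a * x) = g a * l := by rw [hl]; field_simp
    have h0 : polar q (g a) (g (a * x)) = 0 := by
      rw [hPg, show polar q a (a * x) = 0 by
        rw [polar, mul_pow, hx]; linear_combination a * a ^ q * x * t2, hf, hψ0, zero_div]
    rw [hl', polar, mul_pow] at h0
    have hlq : l ^ q = l := by
      have h1 : g a * g a ^ q * (l ^ q + l) = 0 := by linear_combination h0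
      rcases mul_eq_zero.1 h1 with h | h
      · exact absurd h (mul_ne_zero hu (pow_ne_zero _ hu))
      · linear_combination h - l * t2
    have hmul : ∀ z, z ^ q = z → f (x * z) = l * f z := by
      intro z hz
      obtain ⟨t, ht⟩ := exists_tr hn hF (show (z / a ^ (q + 1)) ^ (2 ^ n) = z / a ^ (q + 1) by
        rw [← hq, div_pow, hz, hNfix])
      rw [← hq, eq_div_iff (pow_ne_zero _ ha)] at ht
      have hb : polar q a (a * t) = z := by rw [polar, mul_pow]; linear_combination ht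
      have e1 : x * z = polar q (a * x) (a * t) := by
        rw [← hb, polar, polar, mul_pow a x, hx]; ring
      rw [e1, ← hPg, hl', ← hb, ← hPg, polar, polar, mul_pow, hlq]
      ring
    have h1 := hmul 1 (one_pow _)
    rw [mul_one, hf 1, hψ1, div_self hc0, mul_one] at h1
    exact ⟨by rw [hl', h1], fun z hz => by rw [hmul z hz, h1]⟩
  have hgscal : ∀ (a x : F), x ^ q = x → g (a * x) = g a * f x := fun a x hx => by
    by_cases ha : a = 0
    · rw [ha, zero_mul, hg, hΦ0, zero_div, zero_mul]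
    · exact (hline a x ha hx).1
  have hgK : ∀ x : F, x ^ q = x → g x = f x := fun x hx => by
    have := hgscal 1 x hx
    rwa [one_mul, hg1, one_mul] at this
  have hfmul : ∀ x z : F, x ^ q = x → z ^ q = z → f (x * z) = f x * f z :=
    fun x z hx hz => (hline 1 x one_ne_zero hx).2 z hz
  -- a generator over the subfield
  obtain ⟨r, hr⟩ := exists_tr hn hF (show (1 : F) ^ (2 ^ n) = 1 from one_pow _)
  rw [← hq] at hr
  have hdec : ∀ a : F, (a + (a ^ q + a) * r) ^ q = a + (a ^ q + a) * r ∧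
      (a ^ q + a) ^ q = a ^ q + a := fun a => by
    refine ⟨?_, by rw [hfa, hff]; ring⟩
    rw [hfa, mul_pow, hfa, hff]
    linear_combination (a + a ^ q) * hr - (a + (a + a ^ q) * r) * t2 + (a + a ^ q) * t2
  have hgr : ∀ x y : F, x ^ q = x → y ^ q = y → g (x + y * r) = f x + f y * g r := fun x y hx hy => by
    rw [hgadd, hgK x hx, mul_comm y r, hgscal r y hy]; ring
  have hd : (r * r + r) ^ q = r * r + r := by
    rw [hfa, mul_pow]
    linear_combination (r ^ q + r) * hr - (r ^ q * r + r * r) * t2 + r ^ q * t2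
  have hgrq : g r ^ q + g r = 1 := by
    have h := hPg 1 r
    rw [polar, polar, hg1, one_pow, one_mul, one_mul, one_mul, one_mul, hr, hf, hψ1,
      div_self hc0] at h
    exact h
  have hgr2 : g r * g r + g r = f (r * r + r) := by
    have h := hNg r
    have e1 : r ^ (q + 1) = r * r + r := by
      rw [pow_succ]; linear_combination r * hr - r * r * t2
    rw [e1, pow_succ] at h
    linear_combination h - g r * hgrq + g r * g r * t2
  have hgmul : ∀ a b, g (a * b) = g a * g b := by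
    intro a b
    obtain ⟨hx, hy⟩ := hdec a
    obtain ⟨hx', hy'⟩ := hdec b
    obtain ⟨x, hxdef⟩ : ∃ x, x = a + (a ^ q + a) * r := ⟨_, rfl⟩
    obtain ⟨y, hydef⟩ : ∃ y, y = a ^ q + a := ⟨_, rfl⟩
    obtain ⟨x', hxdef'⟩ : ∃ x, x = b + (b ^ q + b) * r := ⟨_, rfl⟩
    obtain ⟨y', hydef'⟩ : ∃ y, y = b ^ q + b := ⟨_, rfl⟩
    rw [← hxdef] at hx; rw [← hydef] at hy; rw [← hxdef'] at hx'; rw [← hydef'] at hy'
    have ha : a = x + y * r := by rw [hxdef, hydef]; linear_combination -((a ^ q + a) * r * t2)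
    have hb : b = x' + y' * r := by rw [hxdef', hydef']; linear_combination -((b ^ q + b) * r * t2)
    have hE : ∀ u v : F, u ^ q = u → v ^ q = v → (u * v) ^ q = u * v := fun u v h1 h2 => by
      rw [mul_pow, h1, h2]
    have hA : ∀ u v : F, u ^ q = u → v ^ q = v → (u + v) ^ q = u + v := fun u v h1 h2 => by
      rw [hfa, h1, h2]
    have hfadd : ∀ u v : F, u ^ q = u → v ^ q = v → f (u + v) = f u + f v := fun u v h1 h2 => by
      rw [hf, hf, hf, hψadd u v h1 h2, add_div]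
    have e : a * b = (x * x' + y * y' * (r * r + r)) + (x * y' + y * x' + y * y') * r := by
      rw [ha, hb]; linear_combination -(y * y' * r * t2)
    rw [e, hgr _ _ (hA _ _ (hE _ _ hx hx') (hE _ _ (hE _ _ hy hy') hd))
        (hA _ _ (hA _ _ (hE _ _ hx hy') (hE _ _ hy hx')) (hE _ _ hy hy')),
      hfadd _ _ (hE _ _ hx hx') (hE _ _ (hE _ _ hy hy') hd),
      hfadd _ _ (hA _ _ (hE _ _ hx hy') (hE _ _ hy hx')) (hE _ _ hy hy'),
      hfadd _ _ (hE _ _ hx hy') (hE _ _ hy hx'),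
      hfmul _ _ (hE _ _ hy hy') hd, hfmul x x' hx hx', hfmul x y' hx hy', hfmul y x' hy hx',
      hfmul y y' hy hy', ← hgr2, ha, hb, hgr x y hx hy, hgr x' y' hx' hy']
    linear_combination f y * f y' * g r * t2
  let σ₀ : F →+* F :=
    { toFun := g, map_one' := hg1, map_mul' := hgmul, map_zero' := by rw [hg, hΦ0, zero_div],
      map_add' := hgadd }
  exact ⟨μ, RingEquiv.ofBijective σ₀ ⟨hginj, (Finite.injective_iff_surjective).1 hginj⟩, hμ0,
    fun a => hΦg a⟩

/-- the fixed subfield, additively -/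
abbrev subfield (hn : 1 ≤ n) (hF : Fintype.card F = (2 ^ n) ^ 2) : AddSubgroup F := (trMap hn hF).ker

namespace Coords

variable {T : Type*} [Group T] (hn : 1 ≤ n) (hF : Fintype.card F = (2 ^ n) ^ 2)
  (c : Coords F (2 ^ n) T)

include hn hF c

theorem exists_ext (μ : F) (σ : F ≃+* F) (d : F →+ subfield hn hF) (g : T) :
    ∃ g', c.A g' = μ * σ (c.A g) ∧
      c.B g' = μ ^ (2 ^ n + 1) * σ (c.B g) + (d (c.A g) : F) := by
  refine c.exists_mk _ _ ?_
  have hd : (d (c.A g) : F) ^ (2 ^ n) + (d (c.A g) : F) = 0 := (d (c.A g)).2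
  rw [frob_add hn hF, mul_pow, norm_fixed hF, mul_pow μ]
  have h := congrArg σ (c.cond g)
  rw [map_add, map_pow, map_pow] at h
  linear_combination μ ^ (2 ^ n + 1) * h + hd

/-- the map on the group -/
noncomputable def extFun (μ : F) (σ : F ≃+* F) (d : F →+ subfield hn hF) (g : T) : T :=
  (c.exists_ext hn hF μ σ d g).choose

theorem A_extFun (μ : F) (σ : F ≃+* F) (d : F →+ subfield hn hF) (g : T) :
    c.A (c.extFun hn hF μ σ d g) = μ * σ (c.A g) :=
  (c.exists_ext hn hF μ σ d g).choose_spec.1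

theorem B_extFun (μ : F) (σ : F ≃+* F) (d : F →+ subfield hn hF) (g : T) :
    c.B (c.extFun hn hF μ σ d g) = μ ^ (2 ^ n + 1) * σ (c.B g) + (d (c.A g) : F) :=
  (c.exists_ext hn hF μ σ d g).choose_spec.2

theorem extFun_bijective (μ : Fˣ) (σ : F ≃+* F) (d : F →+ subfield hn hF) :
    Function.Bijective (c.extFun hn hF μ σ d) := by
  haveI : Finite T := Nat.finite_of_card_ne_zero (by rw [c.card_eq hn hF]; positivity)
  refine Finite.injective_iff_bijective.1 fun g h e => ?_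
  have e1 := congrArg c.A e
  rw [A_extFun, A_extFun] at e1
  have e1' : c.A g = c.A h := σ.injective (mul_left_cancel₀ μ.ne_zero e1)
  have e2 := congrArg c.B e
  rw [B_extFun, B_extFun, e1'] at e2
  exact c.inj _ _ e1' (σ.injective (mul_left_cancel₀ (pow_ne_zero _ μ.ne_zero) (add_right_cancel e2)))

/-- the automorphism with given data -/
noncomputable def extAut (p : Fˣ × (F ≃+* F) × (F →+ subfield hn hF)) : MulAut T :=
  MulEquiv.ofBijective
    (MonoidHom.mk' (c.extFun hn hF p.1 p.2.1 p.2.2) fun g h => c.inj _ _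
      (by rw [c.A_mul, A_extFun, A_extFun, A_extFun, c.A_mul, map_add, mul_add])
      (by
        have hd : (p.2.2 (c.A g + c.A h) : F) = (p.2.2 (c.A g) : F) + (p.2.2 (c.A h) : F) := by
          rw [map_add]; rfl
        rw [c.B_mul, B_extFun, B_extFun, B_extFun, A_extFun, A_extFun, c.A_mul, c.B_mul, hd,
          map_add, map_add, map_mul, map_pow]
        ring))
    (c.extFun_bijective hn hF p.1 p.2.1 p.2.2)

theorem A_extAut (p : Fˣ × (F ≃+* F) × (F →+ subfield hn hF)) (g : T) :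
    c.A (c.extAut hn hF p g) = p.1 * p.2.1 (c.A g) := c.A_extFun hn hF _ _ _ g

theorem B_extAut (p : Fˣ × (F ≃+* F) × (F →+ subfield hn hF)) (g : T) :
    c.B (c.extAut hn hF p g) =
      (p.1 : F) ^ (2 ^ n + 1) * p.2.1 (c.B g) + (p.2.2 (c.A g) : F) := c.B_extFun hn hF _ _ _ g

theorem exists_A (a : F) : ∃ g, c.A g = a := by
  obtain ⟨b, hb⟩ := exists_point hn hF a
  obtain ⟨g, hg, -⟩ := c.exists_mk a b hb
  exact ⟨g, hg⟩

theorem extAut_injective : Function.Injective (c.extAut hn hF) := by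
  intro p p' e
  have hA : ∀ a : F, (p.1 : F) * p.2.1 a = p'.1 * p'.2.1 a := fun a => by
    obtain ⟨g, rfl⟩ := c.exists_A hn hF a
    rw [← c.A_extAut hn hF, ← c.A_extAut hn hF, e]
  have hμ : p.1 = p'.1 := Units.ext (by simpa using hA 1)
  have hσ : p.2.1 = p'.2.1 := RingEquiv.ext fun a =>
    mul_left_cancel₀ p.1.ne_zero ((hA a).trans (by rw [hμ]))
  refine Prod.ext hμ (Prod.ext hσ (AddMonoidHom.ext fun a => ?_))
  obtain ⟨g, rfl⟩ := c.exists_A hn hF a
  have h := congrArg c.B (DFunLike.congr_fun e g)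
  rw [B_extAut, B_extAut, hμ, hσ] at h
  exact Subtype.ext (add_left_cancel h)

theorem extAut_surjective : Function.Surjective (c.extAut hn hF) := by
  classical
  intro φ
  have t2 := two_eq_zero hn hF
  have hkeep : ∀ g, c.A g = 0 → c.A (φ g) = 0 := fun g h => by
    rw [c.A_eq_zero_iff hn hF, ← map_mul, (c.A_eq_zero_iff hn hF g).1 h, map_one]
  have hback : ∀ g, c.A (φ g) = 0 → c.A g = 0 := fun g h => by
    rw [c.A_eq_zero_iff hn hF]
    refine φ.injective ?_
    rw [map_mul, map_one]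
    exact (c.A_eq_zero_iff hn hF _).1 h
  have hwell : ∀ g h, c.A g = c.A h ↔ c.A (φ g) = c.A (φ h) := by
    intro g h
    have e0 : ∀ x y : T, c.A x = c.A y ↔ c.A (x * y⁻¹) = 0 := fun x y => by
      rw [c.A_mul, c.A_inv hn hF]
      exact ⟨fun e => by rw [e, add_self hn hF], fun e => by linear_combination e - c.A y * t2⟩
    rw [e0, e0 (φ g), ← map_inv, ← map_mul]
    exact ⟨hkeep _, hback _⟩
  choose lift hlift using c.exists_A hn hF
  obtain ⟨Φ, hΦ⟩ : ∃ Φ : F → F, ∀ a, Φ a = c.A (φ (lift a)) := ⟨_, fun _ => rfl⟩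
  have hΦA : ∀ g, Φ (c.A g) = c.A (φ g) := fun g => by rw [hΦ]; exact (hwell _ _).1 (hlift _)
  have hzero : ∀ x : F, ∃ g : T, x ^ (2 ^ n) = x → c.A g = 0 ∧ c.B g = x := fun x => by
    by_cases hx : x ^ (2 ^ n) = x
    · obtain ⟨g, hg⟩ := c.exists_zero hn hF hx
      exact ⟨g, fun _ => hg⟩
    · exact ⟨1, fun h => absurd h hx⟩
  choose zel hzel using hzero
  obtain ⟨ψ, hψ⟩ : ∃ ψ : F → F, ∀ x, ψ x = c.B (φ (zel x)) := ⟨_, fun _ => rfl⟩
  have hψB : ∀ g, c.A g = 0 → ψ (c.B g) = c.B (φ g) := fun g hg => by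
    obtain ⟨h1, h2⟩ := hzel _ (c.B_fixed hn hF hg)
    rw [hψ, c.inj _ _ (h1.trans hg.symm) h2]
  have hΦadd : ∀ a b, Φ (a + b) = Φ a + Φ b := fun a b => by
    rw [← hlift a, ← hlift b, ← c.A_mul, hΦA, hΦA, hΦA, map_mul, c.A_mul]
  have hΦinj : Function.Injective Φ := fun a b e => by
    rw [hΦ, hΦ, ← hwell, hlift, hlift] at e
    exact e
  have hψN : ∀ a, ψ (a ^ (2 ^ n + 1)) = Φ a ^ (2 ^ n + 1) := fun a => by
    rw [← hlift a, ← c.B_sq hn hF, hψB _ (c.A_sq hn hF _), map_mul, c.B_sq hn hF, hΦA]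
  obtain ⟨μ, σ, hμ, hform⟩ := semilinear hn hF Φ ψ hΦadd hΦinj
    (fun x y hx hy => by
      obtain ⟨gx, hgx, rfl⟩ := c.exists_zero hn hF hx
      obtain ⟨gy, hgy, rfl⟩ := c.exists_zero hn hF hy
      have hm : c.B (gx * gy) = c.B gx + c.B gy := by rw [c.B_mul, hgx, zero_mul, add_zero]
      rw [← hm, hψB _ hgx, hψB _ hgy, hψB _ (by rw [c.A_mul, hgx, hgy, add_zero]), map_mul, c.B_mul,
        hkeep gx hgx, zero_mul, add_zero])
    (fun x hx => by
      obtain ⟨gx, hgx, rfl⟩ := c.exists_zero hn hF hx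
      rw [hψB _ hgx]
      exact c.B_fixed hn hF (hkeep _ hgx))
    hψN
  -- the action on the centre
  have hcen : ∀ g, c.A g = 0 → c.B (φ g) = μ ^ (2 ^ n + 1) * σ (c.B g) := fun g hg => by
    obtain ⟨a, ha⟩ := exists_norm hn hF (c.B_fixed hn hF hg)
    rw [← hψB g hg, ← ha, hψN, hform, mul_pow, map_pow]
  -- the remaining part
  obtain ⟨D, hD⟩ : ∃ D : T → F, ∀ g, D g = c.B (φ g) + μ ^ (2 ^ n + 1) * σ (c.B g) :=
    ⟨_, fun _ => rfl⟩
  have hDmul : ∀ g h, D (g * h) = D g + D h := fun g h => by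
    rw [hD, hD, hD, map_mul, c.B_mul, c.B_mul, ← hΦA, ← hΦA, hform, hform, map_add, map_add, map_mul,
      map_pow]
    linear_combination μ ^ (2 ^ n + 1) * (σ (c.A g) * σ (c.A h) ^ (2 ^ n)) * t2
  have hDfix : ∀ g, D g ∈ subfield hn hF := fun g => by
    show D g ^ (2 ^ n) + D g = 0
    have h1 := c.cond (φ g)
    rw [← hΦA, hform, mul_pow] at h1
    have h2 := congrArg σ (c.cond g)
    rw [map_add, map_pow, map_pow] at h2
    rw [hD, frob_add hn hF, mul_pow (μ ^ (2 ^ n + 1)), norm_fixed hF]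
    linear_combination h1 + μ ^ (2 ^ n + 1) * h2 + μ ^ (2 ^ n + 1) * σ (c.A g) ^ (2 ^ n + 1) * t2
  have hD0 : ∀ g, c.A g = 0 → D g = 0 := fun g hg => by
    rw [hD, hcen g hg, add_self hn hF]
  have hDeq : ∀ g h, c.A g = c.A h → D g = D h := fun g h e => by
    have h1 := hDmul (g * h⁻¹) h
    rw [inv_mul_cancel_right,
      hD0 (g * h⁻¹) (by rw [c.A_mul, c.A_inv hn hF, e, add_self hn hF]), zero_add] at h1
    exact h1
  let d : F →+ subfield hn hF := AddMonoidHom.mk' (fun a => ⟨D (lift a), hDfix _⟩) fun a b =>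
    Subtype.ext (by
      show D (lift (a + b)) = D (lift a) + D (lift b)
      rw [← hDmul]
      exact hDeq _ _ (by rw [hlift, c.A_mul, hlift, hlift]))
  refine ⟨(Units.mk0 μ hμ, σ, d), MulEquiv.ext fun g => c.inj _ _ ?_ ?_⟩
  · rw [A_extAut, ← hΦA, hform]
    rfl
  · rw [B_extAut]
    show μ ^ (2 ^ n + 1) * σ (c.B g) + D (lift (c.A g)) = _
    rw [hDeq _ g (hlift _), hD]
    linear_combination μ ^ (2 ^ n + 1) * σ (c.B g) * t2

theorem card_hom : Nat.card (F →+ subfield hn hF) = 2 ^ (2 * n ^ 2) := by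
  haveI : Fact (Nat.Prime 2) := ⟨Nat.prime_two⟩
  haveI := charP_two hn hF
  letI := ZMod.algebra F 2
  let E : Submodule (ZMod 2) F := AddSubgroup.toZModSubmodule 2 (subfield hn hF)
  have hE : Nat.card E = 2 ^ n := (tr_facts hn hF).1
  have hdF : Module.finrank (ZMod 2) F = 2 * n := by
    have := Module.natCard_eq_pow_finrank (K := ZMod 2) (V := F)
    rw [Nat.card_zmod, Nat.card_eq_fintype_card, hF, ← pow_mul] at this
    rw [← Nat.pow_right_injective le_rfl this, mul_comm]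
  have hdE : Module.finrank (ZMod 2) E = n := by
    have := Module.natCard_eq_pow_finrank (K := ZMod 2) (V := E)
    rw [Nat.card_zmod, hE] at this
    exact (Nat.pow_right_injective le_rfl this).symm
  have h1 : Nat.card (F →+ subfield hn hF) = Nat.card (F →ₗ[ZMod 2] E) :=
    Nat.card_congr
      { toFun := fun f => AddMonoidHom.toZModLinearMap 2 (M₁ := E) f
        invFun := fun f => f.toAddMonoidHom
        left_inv := fun _ => rfl
        right_inv := fun _ => rfl }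
  rw [h1, Module.natCard_eq_pow_finrank (K := ZMod 2), Module.finrank_linearMap, Nat.card_zmod, hdF,
    hdE]
  congr 1
  ring

theorem card_mulAut :
    Nat.card (MulAut T) = 2 ^ (2 * n ^ 2) * (2 * n * ((2 ^ n) ^ 2 - 1)) := by
  haveI : Fact (Nat.Prime 2) := ⟨Nat.prime_two⟩
  haveI := charP_two hn hF
  rw [← Nat.card_eq_of_bijective _ ⟨c.extAut_injective hn hF, c.extAut_surjective hn hF⟩,
    Nat.card_prod, Nat.card_prod, Nat.card_units, Nat.card_eq_fintype_card (α := F), hF,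
    card_field_aut 2 (n * 2) (by rw [Nat.card_eq_fintype_card, hF, pow_mul]),
    c.card_hom hn hF]
  ring

end Coords

end Cfsg.Lib.U3Even
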